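import Mathlib.CategoryTheory.Abelian.RightDerived
import Mathlib.Algebra.Homology.HomologicalComplexAbelian
import Mathlib.Algebra.Homology.HomologicalComplexBiprod
import Mathlib.Algebra.Homology.HomologySequence
import Mathlib.Algebra.Homology.HomologySequenceLemmas
import Mathlib.Algebra.Homology.ExactSequence

/-!
The long exact sequence of derived functors of a square of functors that is short exact on injectives.
-/

set_option autoImplicit false
set_option linter.style.haveILetI false
set_option linter.unusedSectionVars false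
set_option backward.isDefEq.respectTransparency false
set_option backward.isDefEq.respectTransparency.types false

universe v v' u u'

open CategoryTheory Category Limits

namespace Groth.Agent.FunctorLES

variable {C : Type u} [Category.{v} C] [Abelian C] [EnoughInjectives C]
  {D : Type u'} [Category.{v'} D] [Abelian D]
  {A B B' E : C ⥤ D} [A.Additive] [B.Additive] [B'.Additive] [E.Additive]
  (α : A ⟶ B) (α' : A ⟶ B') (γ : B ⟶ E) (γ' : B' ⟶ E)

/-- The first map in a degree. -/
noncomputable abbrev fn (n : ℕ) (X : C) : (A.rightDerived n).obj X ⟶ (B.rightDerived n).obj X ⊞ (B'.rightDerived n).obj X :=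
  biprod.lift ((NatTrans.rightDerived α n).app X) ((NatTrans.rightDerived α' n).app X)

/-- The second map in a degree. -/
noncomputable abbrev gn (n : ℕ) (X : C) : (B.rightDerived n).obj X ⊞ (B'.rightDerived n).obj X ⟶ (E.rightDerived n).obj X :=
  biprod.desc ((NatTrans.rightDerived γ n).app X) (-((NatTrans.rightDerived γ' n).app X))

theorem exists_les (w : α ≫ γ = α' ≫ γ')
    (h : ∀ I : C, Injective I → (ShortComplex.mk (biprod.lift (α.app I) (α'.app I)) (biprod.desc (γ.app I) (-(γ'.app I)))
      (by rw [biprod.lift_desc, Preadditive.comp_neg, ← NatTrans.comp_app, ← NatTrans.comp_app, w, ← sub_eq_add_neg,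
        sub_self])).ShortExact)
    (X : C) :
    ∃ δ : ∀ n : ℕ, (E.rightDerived n).obj X ⟶ (A.rightDerived (n + 1)).obj X,
      Mono (fn α α' 0 X) ∧ ∀ n : ℕ,
        (ComposableArrows.mk₂ (fn α α' n X) (gn γ γ' n X)).Exact ∧
        (ComposableArrows.mk₂ (gn γ γ' n X) (δ n)).Exact ∧
        (ComposableArrows.mk₂ (δ n) (fn α α' (n + 1) X)).Exact := by
  let P := injectiveResolution X
  let K := P.cocomplex
  let up := ComplexShape.up ℕ
  let φ := (NatTrans.mapHomologicalComplex α up).app K
  let φ' := (NatTrans.mapHomologicalComplex α' up).app K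
  let ψ := (NatTrans.mapHomologicalComplex γ up).app K
  let ψ' := (NatTrans.mapHomologicalComplex γ' up).app K
  let S : ShortComplex (CochainComplex D ℕ) := ShortComplex.mk (biprod.lift φ φ') (biprod.desc ψ (-ψ')) (by
    rw [biprod.lift_desc, Preadditive.comp_neg, ← sub_eq_add_neg, sub_eq_zero]
    ext j
    exact congr_arg (fun t => t.app (K.X j)) w)
  have hS : S.ShortExact := HomologicalComplex.shortExact_of_degreewise_shortExact S fun j => by
    refine ShortComplex.shortExact_of_iso ?_ (h (K.X j) (P.injective j))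
    refine Iso.symm ?_
    refine ShortComplex.isoMk (Iso.refl _) (HomologicalComplex.biprodXIso _ _ j) (Iso.refl _) ?_ ?_
    · change 𝟙 _ ≫ biprod.lift _ _ = (biprod.lift φ φ').f j ≫ _
      rw [id_comp]
      apply biprod.hom_ext
      · erw [biprod.lift_fst, assoc, HomologicalComplex.biprodXIso_hom_fst, ← HomologicalComplex.comp_f, biprod.lift_fst]
        rfl
      · erw [biprod.lift_snd, assoc, HomologicalComplex.biprodXIso_hom_snd, ← HomologicalComplex.comp_f, biprod.lift_snd]
        rfl
    · change _ ≫ biprod.desc _ _ = (biprod.desc ψ (-ψ')).f j ≫ 𝟙 _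
      rw [comp_id, ← cancel_epi (HomologicalComplex.biprodXIso _ _ j).inv, Iso.inv_hom_id_assoc]
      apply biprod.hom_ext'
      · have k : biprod.inl ≫ (HomologicalComplex.biprodXIso ((B.mapHomologicalComplex up).obj K)
            ((B'.mapHomologicalComplex up).obj K) j).inv ≫ (biprod.desc ψ (-ψ')).f j = ψ.f j := by
          simp [HomologicalComplex.biprodXIso, Functor.mapBiprod_inv, ← HomologicalComplex.comp_f]
        exact (biprod.inl_desc _ _).trans k.symm
      · have k : biprod.inr ≫ (HomologicalComplex.biprodXIso ((B.mapHomologicalComplex up).obj K)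
            ((B'.mapHomologicalComplex up).obj K) j).inv ≫ (biprod.desc ψ (-ψ')).f j = (-ψ').f j := by
          simp [HomologicalComplex.biprodXIso, Functor.mapBiprod_inv, ← HomologicalComplex.comp_f]
        exact (biprod.inr_desc _ _).trans k.symm
  let Hn := fun n => HomologicalComplex.homologyFunctor D up n
  haveI : ∀ n, (Hn n).Additive := fun n => inferInstance
  haveI : ∀ n, PreservesBinaryBiproducts (Hn n) := fun n => preservesBinaryBiproducts_of_preservesBiproducts (Hn n)
  let iA := fun n => P.isoRightDerivedObj A n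
  let iB := fun n => P.isoRightDerivedObj B n
  let iB' := fun n => P.isoRightDerivedObj B' n
  let iE := fun n => P.isoRightDerivedObj E n
  let iBB := fun n => (Hn n).mapBiprod ((B.mapHomologicalComplex up).obj K) ((B'.mapHomologicalComplex up).obj K) ≪≫
    biprod.mapIso (iB n).symm (iB' n).symm
  have hf : ∀ n, (iA n).inv ≫ fn α α' n X = HomologicalComplex.homologyMap S.f n ≫ (iBB n).hom := fun n => by
    apply biprod.hom_ext
    · change ((iA n).inv ≫ fn α α' n X) ≫ _ = ((Hn n).map (biprod.lift φ φ') ≫ (iBB n).hom) ≫ _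
      simp only [fn, assoc, biprod.lift_fst, iBB, Iso.trans_hom, biprod.mapIso_hom, biprod.map_fst, Functor.mapBiprod_hom,
        biprod.lift_fst_assoc, Iso.symm_hom]
      rw [P.rightDerived_app_eq α n, Iso.inv_hom_id_assoc, ← Functor.map_comp_assoc, biprod.lift_fst]
    · change ((iA n).inv ≫ fn α α' n X) ≫ _ = ((Hn n).map (biprod.lift φ φ') ≫ (iBB n).hom) ≫ _
      simp only [fn, assoc, biprod.lift_snd, iBB, Iso.trans_hom, biprod.mapIso_hom, biprod.map_snd, Functor.mapBiprod_hom,
        biprod.lift_snd_assoc, Iso.symm_hom]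
      rw [P.rightDerived_app_eq α' n, Iso.inv_hom_id_assoc, ← Functor.map_comp_assoc, biprod.lift_snd]
  have hg : ∀ n, (iBB n).hom ≫ gn γ γ' n X = HomologicalComplex.homologyMap S.g n ≫ (iE n).inv := fun n => by
    rw [← cancel_epi (iBB n).inv, Iso.inv_hom_id_assoc]
    apply biprod.hom_ext'
    · change _ = biprod.inl ≫ _ ≫ (Hn n).map (biprod.desc ψ (-ψ')) ≫ _
      simp only [gn, biprod.inl_desc, iBB, Iso.trans_inv, biprod.mapIso_inv, biprod.inl_map_assoc, assoc,
        Functor.mapBiprod_inv, biprod.inl_desc_assoc, Iso.symm_inv]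
      rw [P.rightDerived_app_eq γ n, ← Functor.map_comp_assoc, biprod.inl_desc]
    · change _ = biprod.inr ≫ _ ≫ (Hn n).map (biprod.desc ψ (-ψ')) ≫ _
      simp only [gn, biprod.inr_desc, iBB, Iso.trans_inv, biprod.mapIso_inv, biprod.inr_map_assoc, assoc,
        Functor.mapBiprod_inv, biprod.inr_desc_assoc, Iso.symm_inv]
      rw [P.rightDerived_app_eq γ' n, ← Functor.map_comp_assoc, biprod.inr_desc, Functor.map_neg, Preadditive.neg_comp,
        Preadditive.comp_neg]
  let δ := fun n => (iE n).hom ≫ hS.δ n (n + 1) rfl ≫ (iA (n + 1)).inv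
  refine ⟨δ, ?_, fun n => ?_⟩
  · haveI : Mono S.f := hS.mono_f
    haveI : Mono (HomologicalComplex.homologyMap S.f 0) :=
      HomologicalComplex.mono_homologyMap_of_mono_of_not_rel S.f 0 (by simp)
    rw [show fn α α' 0 X = (iA 0).hom ≫ HomologicalComplex.homologyMap S.f 0 ≫ (iBB 0).hom by
      rw [← hf, Iso.hom_inv_id_assoc]]
    infer_instance
  have hfg : fn α α' n X ≫ gn γ γ' n X = 0 := by
    rw [← cancel_epi (iA n).inv, reassoc_of% (hf n), hg, ← assoc, ← HomologicalComplex.homologyMap_comp, S.zero,
      HomologicalComplex.homologyMap_zero, zero_comp, comp_zero]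
  have hgd : gn γ γ' n X ≫ δ n = 0 := by
    rw [← cancel_epi (iBB n).hom, reassoc_of% (hg n)]
    simp [δ, hS.comp_δ_assoc]
  have hdf : δ n ≫ fn α α' (n + 1) X = 0 := by
    simp only [δ, assoc]
    rw [hf (n + 1)]
    simp [hS.δ_comp_assoc]
  refine ⟨ComposableArrows.exact₂_mk _ hfg ?_, ComposableArrows.exact₂_mk _ hgd ?_, ComposableArrows.exact₂_mk _ hdf ?_⟩
  · exact ShortComplex.exact_of_iso (ShortComplex.isoMk (iA n).symm (iBB n) (iE n).symm (hf n) (hg n)) (hS.homology_exact₂ n)
  · exact ShortComplex.exact_of_iso (ShortComplex.isoMk (iBB n) (iE n).symm (iA (n + 1)).symm (hg n)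
      (show (iE n).inv ≫ δ n = hS.δ n (n + 1) rfl ≫ (iA (n + 1)).inv by simp [δ])) (hS.homology_exact₃ n (n + 1) rfl)
  · exact ShortComplex.exact_of_iso (ShortComplex.isoMk (iE n).symm (iA (n + 1)).symm (iBB (n + 1))
      (show (iE n).inv ≫ δ n = hS.δ n (n + 1) rfl ≫ (iA (n + 1)).inv by simp [δ]) (hf (n + 1))) (hS.homology_exact₁ n (n + 1) rfl)

end Groth.Agent.FunctorLES
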