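import Groth.Agent.FunctorLES.Basic
import Groth.Agent.CurveFF.ShortExact
import Groth.Agent.SiteCoh.Cartan
import Groth.Agent.TopPullModel.Flasque
import Groth.Agent.TopQC.Basic
import Groth.Prelude

/-!
The relative Mayer–Vietoris sequence.
-/

set_option autoImplicit false
set_option linter.style.haveILetI false
set_option linter.unusedSectionVars false
set_option backward.isDefEq.respectTransparency false
set_option backward.isDefEq.respectTransparency.types false

universe u

open CategoryTheory Category Limits Opposite TopologicalSpace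
open Groth.Agent.TopPullModel Groth.Agent.TopCompact

namespace Groth.Agent.FunctorLES

theorem app_biprod_ext {X : TopCat.{u}} {A B : CohTop.Ab X} (W : (Opens X)ᵒᵖ) (s : (A ⊞ B).obj.obj W) :
    s = (biprod.inl : A ⟶ A ⊞ B).hom.app W ((biprod.fst : A ⊞ B ⟶ A).hom.app W s) +
      (biprod.inr : B ⟶ A ⊞ B).hom.app W ((biprod.snd : A ⊞ B ⟶ B).hom.app W s) := by
  have h := congrArg (fun φ : A ⊞ B ⟶ A ⊞ B => φ.hom.app W s) (biprod.total (X := A) (Y := B)).symm
  exact h

theorem shortExact_of_square {Y : TopCat.{u}} {A B B' E : CohTop.Ab Y} (a : A ⟶ B) (b : A ⟶ B') (c : B ⟶ E) (c' : B' ⟶ E)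
    (w : biprod.lift a b ≫ biprod.desc c (-c') = 0)
    (hinj : ∀ (W : Opens Y) (s : A.obj.obj (op W)), a.hom.app (op W) s = 0 → b.hom.app (op W) s = 0 → s = 0)
    (hglue : ∀ (W : Opens Y) (s : B.obj.obj (op W)) (t : B'.obj.obj (op W)), c.hom.app (op W) s = c'.hom.app (op W) t →
      ∃ r, a.hom.app (op W) r = s ∧ b.hom.app (op W) r = t)
    (hsurj : ∀ W : Opens Y, Function.Surjective (c.hom.app (op W))) :
    (ShortComplex.mk (biprod.lift a b) (biprod.desc c (-c')) w).ShortExact := by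
  let p₁ : B ⊞ B' ⟶ B := biprod.fst
  let p₂ : B ⊞ B' ⟶ B' := biprod.snd
  let i₁ : B ⟶ B ⊞ B' := biprod.inl
  let i₂ : B' ⟶ B ⊞ B' := biprod.inr
  have ha : ∀ W s, p₁.hom.app W ((biprod.lift a b).hom.app W s) = a.hom.app W s := fun W s =>
    congrArg (fun φ : A ⟶ B => φ.hom.app W s) (biprod.lift_fst a b)
  have hb : ∀ W s, p₂.hom.app W ((biprod.lift a b).hom.app W s) = b.hom.app W s := fun W s =>
    congrArg (fun φ : A ⟶ B' => φ.hom.app W s) (biprod.lift_snd a b)
  have hd : ∀ W s, (biprod.desc c (-c')).hom.app W s =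
      c.hom.app W (p₁.hom.app W s) + -(c'.hom.app W (p₂.hom.app W s)) := fun W s =>
    congrArg (fun φ : B ⊞ B' ⟶ E => φ.hom.app W s) (biprod.desc_eq (f := c) (g := -c'))
  refine CurveFF.shortExact_of_sections _ (fun W => (injective_iff_map_eq_zero _).2 fun s hs => ?_)
    (fun W s hs => ?_) fun W t x hx => ⟨W, le_rfl, hx, ?_⟩
  · exact hinj W s ((ha _ s).symm.trans ((congrArg _ hs).trans (map_zero _)))
      ((hb _ s).symm.trans ((congrArg _ hs).trans (map_zero _)))
  · have h2 : c.hom.app (op W) (p₁.hom.app (op W) s) + -(c'.hom.app (op W) (p₂.hom.app (op W) s)) = 0 :=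
      (hd _ s).symm.trans hs
    rw [← sub_eq_add_neg, sub_eq_zero] at h2
    obtain ⟨r, hrU, hrV⟩ := hglue W _ _ h2
    refine ⟨r, ?_⟩
    change (biprod.lift a b).hom.app (op W) r = s
    rw [app_biprod_ext (op W) ((biprod.lift a b).hom.app (op W) r), app_biprod_ext (op W) s]
    exact congrArg₂ (· + ·) (congrArg _ ((ha _ r).trans hrU)) (congrArg _ ((hb _ r).trans hrV))
  · obtain ⟨s, hs⟩ := hsurj W t
    refine ⟨i₁.hom.app (op W) s, ?_⟩
    have : (biprod.desc c (-c')).hom.app (op W) (i₁.hom.app (op W) s) = c.hom.app (op W) s :=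
      congrArg (fun φ : B ⟶ E => φ.hom.app (op W) s) (biprod.inl_desc c (-c'))
    exact this.trans (hs.trans (LCZ.res_self _ _ t).symm)

variable {X Y : TopCat.{u}} (f : X ⟶ Y) (U V : Opens X)

theorem comp_eq : CohCx.pushToRestrPush f U ≫ CohCx.restrPushToRestrPush f (inf_le_left : U ⊓ V ≤ U) =
    CohCx.pushToRestrPush f V ≫ CohCx.restrPushToRestrPush f (inf_le_right : U ⊓ V ≤ V) := by
  ext F : 2
  refine Sheaf.hom_ext (NatTrans.ext (funext fun W => ?_))
  change F.obj.map _ ≫ F.obj.map _ = F.obj.map _ ≫ F.obj.map _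
  rw [← F.obj.map_comp, ← F.obj.map_comp]
  rfl

theorem shortExact_mv (hUV : U ⊔ V = ⊤) (I : CohTop.Ab X) [TopCat.Sheaf.IsFlasque I] :
    (ShortComplex.mk (biprod.lift ((CohCx.pushToRestrPush f U).app I) ((CohCx.pushToRestrPush f V).app I))
      (biprod.desc ((CohCx.restrPushToRestrPush f (inf_le_left : U ⊓ V ≤ U)).app I)
        (-((CohCx.restrPushToRestrPush f (inf_le_right : U ⊓ V ≤ V)).app I)))
      (by rw [biprod.lift_desc, Preadditive.comp_neg, ← NatTrans.comp_app, ← NatTrans.comp_app, comp_eq,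
        ← sub_eq_add_neg, sub_self])).ShortExact := by
  classical
  let a := (CohCx.pushToRestrPush f U).app I
  let b := (CohCx.pushToRestrPush f V).app I
  let c := (CohCx.restrPushToRestrPush f (inf_le_left : U ⊓ V ≤ U)).app I
  let c' := (CohCx.restrPushToRestrPush f (inf_le_right : U ⊓ V ≤ V)).app I
  have hcov : ∀ x : X, x ∈ U ∨ x ∈ V := fun x => Opens.mem_sup.1 (hUV.symm ▸ trivial)
  have img : ∀ (O : Opens X) (W : Opens Y) (x : X), x ∈ O → f x ∈ W →
      x ∈ O.isOpenEmbedding.functor.obj ((Opens.map (CohCx.incl O ≫ f)).obj W) := fun O W x hx hW => ⟨⟨x, hx⟩, hW, rfl⟩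
  have img' : ∀ (O : Opens X) (W : Opens Y) (x : X),
      x ∈ O.isOpenEmbedding.functor.obj ((Opens.map (CohCx.incl O ≫ f)).obj W) → x ∈ O ∧ f x ∈ W := by
    rintro O W _ ⟨y, hy, rfl⟩
    exact ⟨y.2, hy⟩
  refine shortExact_of_square a b c c' _ (fun W s ha hb => ?_) (fun W sU sV hd => ?_) fun W t => ?_
  · refine gm_ext I ((Opens.map f).obj W) _ _ fun x hx => ?_
    rw [map_zero]
    rcases hcov x with h | h
    · exact (gm_res I _ x (img U W x h hx) s).symm.trans ((congrArg (gm I _ x (img U W x h hx)) ha).trans (map_zero _))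
    · exact (gm_res I _ x (img V W x h hx) s).symm.trans ((congrArg (gm I _ x (img V W x h hx)) hb).trans (map_zero _))
  · obtain ⟨r, hrU, hrV⟩ := TopQC.exists_glue_res I sU sV fun x hA hB => by
      obtain ⟨hU, hW⟩ := img' U W x hA
      obtain ⟨hV, -⟩ := img' V W x hB
      exact (gm_res I _ x (img (U ⊓ V) W x ⟨hU, hV⟩ hW) sU).symm.trans
        ((congrArg (gm I _ x (img (U ⊓ V) W x ⟨hU, hV⟩ hW)) hd).trans (gm_res I _ x _ sV))
    have hle : (Opens.map f).obj W ≤ U.isOpenEmbedding.functor.obj ((Opens.map (CohCx.incl U ≫ f)).obj W) ⊔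
        V.isOpenEmbedding.functor.obj ((Opens.map (CohCx.incl V ≫ f)).obj W) := fun x hx =>
      (hcov x).elim (fun h => Or.inl (img U W x h hx)) fun h => Or.inr (img V W x h hx)
    refine ⟨I.obj.map (homOfLE hle).op r, Eq.trans ?_ hrU, Eq.trans ?_ hrV⟩
    all_goals
      change I.obj.map _ (I.obj.map (homOfLE hle).op r) = _
      rw [← ConcreteCategory.comp_apply, ← I.obj.map_comp]
      rfl
  · exact res_surjective_of_flasque I
      (show (U ⊓ V).isOpenEmbedding.functor.obj ((Opens.map (CohCx.incl (U ⊓ V) ≫ f)).obj W) ≤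
        U.isOpenEmbedding.functor.obj ((Opens.map (CohCx.incl U ≫ f)).obj W) from fun y hy =>
          img U W y (img' _ W y hy).1.1 (img' _ W y hy).2) t

end Groth.Agent.FunctorLES
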